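import Groth.Agent.Lib.Helper2.RHom.EZProj
import Groth.Agent.Lib.Helper13.DerivedCommuteNat
import Groth.Agent.Lib.Helper13.ModSiteTensor
import Groth.Agent.Lib.Helper13.ModGrothendieck
import Groth.Agent.Lib.Helper13.ExtZeroExact
import Groth.Prelude.Def_ModSite2

/-!
# Restriction of the internal hom and of the local Ext sheaves to an open subscheme (helper2)

* `restrSheafHomIso V F : ℋom_X(F, -)|_V ≅ ℋom_V(F|_V, (-)|_V)`, from the projection formula for `j_!`.
* `restrExtShIso V F q : ℰxt^q_X(F, -)|_V ≅ ℰxt^q_V(F|_V, (-)|_V)`.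
-/

set_option autoImplicit false
universe u
open CategoryTheory CategoryTheory.Limits AlgebraicGeometry TopologicalSpace Opposite

namespace Groth.Agent.Lib.Helper2.ExtShCoh

open Groth.Agent.Lib.Helper2.RHom Groth.Agent.Lib.Helper13

variable {X : Scheme.{u}} (V : X.Opens)

/-- `j_!(-) ⊗ F` -/
noncomputable abbrev L₁ (F : X.Modules) : (V : Scheme.{u}).Modules ⥤ X.Modules :=
  jsh V ⋙ (ModSite.tensorBi X.sheaf).flip.obj F

/-- `j_!(- ⊗ F|_V)` -/
noncomputable abbrev L₂ (F : X.Modules) : (V : Scheme.{u}).Modules ⥤ X.Modules :=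
  (ModSite.tensorBi (V : Scheme.{u}).sheaf).flip.obj ((jst V).obj F) ⋙ jsh V

/-- the projection formula as a natural isomorphism in the first variable -/
noncomputable def projNat (F : X.Modules) : L₁ V F ≅ L₂ V F :=
  NatIso.ofComponents (fun A => projIso V A F) (by
    intro A A' a
    exact projIso_nat₁ V a F)

/-- the internal homs, with the binder discharged -/
instance (priority := 50) hasSheafHomX (F : X.Modules) : ModSite.HasSheafHom (O := X.sheaf) F :=
  ModSiteTensor.hasSheafHom X.sheaf F

/-- restriction of the internal hom to an open subscheme -/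
noncomputable def restrSheafHomIso (F : X.Modules) [ModSite.HasSheafHom (O := X.sheaf) F]
    [ModSite.HasSheafHom (O := (V : Scheme.{u}).sheaf) ((jst V).obj F)] :
    ModSite.sheafHom (O := X.sheaf) F ⋙ jst V ≅
      jst V ⋙ ModSite.sheafHom (O := (V : Scheme.{u}).sheaf) ((jst V).obj F) :=
  let adj₁ : L₁ V F ⊣ ModSite.sheafHom (O := X.sheaf) F ⋙ jst V :=
    (adjV V).comp (ModSite.sheafHomAdj (O := X.sheaf) F)
  let adj₂ : L₂ V F ⊣ jst V ⋙ ModSite.sheafHom (O := (V : Scheme.{u}).sheaf) ((jst V).obj F) :=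
    (ModSite.sheafHomAdj (O := (V : Scheme.{u}).sheaf) ((jst V).obj F)).comp (adjV V)
  (adj₁.ofNatIsoLeft (projNat V F)).rightAdjointUniq adj₂

instance additive_jst : (jst V).Additive := (adjV V).right_adjoint_additive

theorem injective_jst (I : X.Modules) (hI : Injective I) : Injective ((jst V).obj I) := by
  haveI : PreservesFiniteLimits (jsh V) := inferInstance
  haveI : (jsh V).PreservesMonomorphisms := inferInstance
  exact Injective.injective_of_adjoint (adjV V) I

/-- restriction of the local Ext sheaves to an open subscheme -/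
noncomputable def restrExtShIso (F : X.Modules) [ModSite.HasSheafHom (O := X.sheaf) F]
    [ModSite.HasSheafHom (O := (V : Scheme.{u}).sheaf) ((jst V).obj F)]
    [HasInjectiveResolutions (ModSite.Mod X.sheaf)]
    [HasInjectiveResolutions (ModSite.Mod (V : Scheme.{u}).sheaf)] (q : ℕ) :
    ModSite.extSh (O := X.sheaf) F q ⋙ jst V ≅
      jst V ⋙ ModSite.extSh (O := (V : Scheme.{u}).sheaf) ((jst V).obj F) q :=
  haveI h1 : HasInjectiveResolutions X.Modules := ‹HasInjectiveResolutions (ModSite.Mod X.sheaf)›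
  haveI h2 : HasInjectiveResolutions (V : Scheme.{u}).Modules :=
    ‹HasInjectiveResolutions (ModSite.Mod (V : Scheme.{u}).sheaf)›
  haveI h3 : (jst V).Additive := additive_jst V
  let SX : X.Modules ⥤ X.Modules := ModSite.sheafHom (O := X.sheaf) F
  let SV : (V : Scheme.{u}).Modules ⥤ (V : Scheme.{u}).Modules :=
    ModSite.sheafHom (O := (V : Scheme.{u}).sheaf) ((jst V).obj F)
  haveI h4 : SX.Additive := ModSite.sheafHom_additive X.sheaf F
  haveI h5 : SV.Additive := ModSite.sheafHom_additive (V : Scheme.{u}).sheaf ((jst V).obj F)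
  let e : SX ⋙ jst V ≅ jst V ⋙ SV := restrSheafHomIso V F
  DerivedCommute.rightDerivedBaseChangeIso SX (jst V) (jst V) (injective_jst V) SV e q

end Groth.Agent.Lib.Helper2.ExtShCoh
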