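import Groth.Agent.Lib.Helper2.ExtShCoh.Restr
import Groth.Agent.Lib.Helper13.SheafHomExact
import Groth.Agent.Lib.Helper7.FreeHomExact
import Groth.Agent.Lib.Helper1.FFCoh
import Groth.Agent.Lib.Helper17.DevBasic
import Groth.Agent.Lib.Helper3.QCLocal
import Groth.Agent.Lib.Helper3.QCOpen
import Groth.Agent.Lib.Helper13.PCohFT
import Groth.Agent.Lib.Helper2.ExtCoh.Basic

/-!
# Coherence of the local Ext sheaves of coherent modules (helper2)
-/

set_option autoImplicit false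
universe u
open CategoryTheory CategoryTheory.Limits AlgebraicGeometry TopologicalSpace Opposite

namespace Groth.Agent.Lib.Helper2.ExtShCoh

open Groth.Agent.Lib.Helper2.RHom Groth.Agent.Lib.Helper13 Groth.Agent.Lib.Helper13.SheafHomExact
  Groth.Agent.Lib.Helper7.FreeHomExact Groth.Agent.Lib.Helper3 Groth.Agent.Lib.Helper17
  AlgebraicGeometry.Scheme.Modules

attribute [local instance] Abelian.hasFiniteBiproducts

instance (priority := 50) hasInjResX (Y : Scheme.{u}) :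
    HasInjectiveResolutions (ModSite.Mod Y.sheaf) := by
  haveI : EnoughInjectives (ModSite.Mod Y.sheaf) := ModGrothendieck.enoughInjectives Y.ringCatSheaf
  infer_instance

section Free

variable {C : Type u} [SmallCategory C] {J : GrothendieckTopology C} (O : Sheaf J CommRingCat.{u})

/-- `ℋom(O^n, -) ≅ (-)^n` -/
noncomputable def sheafHomFreeIso (n : ℕ) (M : ModSite.Mod O)
    (e : M ≅ ∐ fun _ : Fin n => ModSite.unit O) [ModSite.HasSheafHom M] :
    ModSite.sheafHom M ≅ Pn (A := ModSite.Mod O) n :=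
  let e' : M ≅ ⨁ fun _ : Fin n => ModSite.unit O := e ≪≫ (biproduct.isoCoproduct _).symm
  let isoL : (ModSite.tensorBi O).flip.obj M ≅ Pn n :=
    (ModSite.tensorBi O).flip.mapIso e' ≪≫ tensorFreeIso O n
  Adjunction.rightAdjointUniq (ModSite.sheafHomAdj M) ((adjP n).ofNatIsoLeft isoL.symm)

theorem pfc_sheafHom_free (n : ℕ) (M : ModSite.Mod O)
    (e : M ≅ ∐ fun _ : Fin n => ModSite.unit O) [ModSite.HasSheafHom M] :
    PreservesFiniteColimits (ModSite.sheafHom M) := by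
  haveI : (Pn (A := ModSite.Mod O) n).IsLeftAdjoint := (adjP n).isLeftAdjoint
  haveI : PreservesFiniteColimits (Pn (A := ModSite.Mod O) n) := inferInstance
  exact preservesFiniteColimits_of_natIso (sheafHomFreeIso O n M e).symm

end Free

variable {Y : Scheme.{u}}

/-- finite free modules -/
def IsFinFree (E : Y.Modules) : Prop :=
  ∃ n : ℕ, Nonempty (E ≅ ∐ fun _ : Fin n => ModSite.unit Y.sheaf)

lemma isCoh_of_iso' {M N : Y.Modules} (e : M ≅ N) (h : Coh.IsCoh M) : Coh.IsCoh N :=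
  DevBasic.isCoh_of_iso e h

lemma isCoh_unit (Y : Scheme.{u}) : Coh.IsCoh (ModSite.unit Y.sheaf : Y.Modules) :=
  (⟨inferInstance, inferInstance⟩ : Coh.IsCoh (Coh.structureModule Y))

lemma isCoh_pn (n : ℕ) (G : Y.Modules) (hG : Coh.IsCoh G) :
    Coh.IsCoh ((Pn (A := Y.Modules) n).obj G) :=
  Groth.Agent.Lib.Helper1.FFCoh.isCoh_biproduct (fun _ : Fin n => G) (fun _ => hG)

lemma isCoh_of_isFinFree {E : Y.Modules} (hE : IsFinFree E) : Coh.IsCoh E := by
  obtain ⟨n, ⟨e⟩⟩ := hE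
  refine isCoh_of_iso' (e ≪≫ (biproduct.isoCoproduct _).symm).symm ?_
  exact Groth.Agent.Lib.Helper1.FFCoh.isCoh_biproduct (fun _ : Fin n => ModSite.unit Y.sheaf)
    (fun _ => isCoh_unit Y)

lemma isCoh_sheafHom_free {E : Y.Modules} (hE : IsFinFree E) (G : Y.Modules) (hG : Coh.IsCoh G) :
    Coh.IsCoh ((ModSite.sheafHom (O := Y.sheaf) E).obj G) := by
  obtain ⟨n, ⟨e⟩⟩ := hE
  exact isCoh_of_iso' ((sheafHomFreeIso Y.sheaf n E e).app G).symm (isCoh_pn n G hG)

lemma pfc_of_isFinFree {E : Y.Modules} (hE : IsFinFree E) :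
    PreservesFiniteColimits (ModSite.sheafHom (O := Y.sheaf) E) := by
  obtain ⟨n, ⟨e⟩⟩ := hE
  exact pfc_sheafHom_free Y.sheaf n E e

lemma isFinFree_free (I : Type u) [Finite I] :
    IsFinFree (SheafOfModules.free (R := Y.ringCatSheaf) I : Y.Modules) := by
  obtain ⟨n, ⟨eq⟩⟩ := Finite.exists_equiv_fin I
  exact ⟨n, ⟨Sigma.whiskerEquiv (f := fun _ : I => ModSite.unit Y.sheaf)
    (g := fun _ : Fin n => ModSite.unit Y.sheaf) eq (fun _ => Iso.refl _)⟩⟩

lemma isFinFree_restrict (V : Y.Opens) {E : Y.Modules} (hE : IsFinFree E) :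
    IsFinFree ((jst V).obj E) := by
  obtain ⟨n, ⟨e⟩⟩ := hE
  exact ⟨n, ⟨(jst V).mapIso e ≪≫
    PreservesCoproduct.iso (jst V) (fun _ : Fin n => Coh.structureModule Y) ≪≫
    Sigma.mapIso (fun _ => restrictUnitIso V.ι)⟩⟩

lemma isCoh_of_cover [IsLocallyNoetherian Y] (M : Y.Modules)
    (h : ∀ y : Y, ∃ V : Y.Opens, y ∈ V ∧ Coh.IsCoh ((jst V).obj M)) : Coh.IsCoh M := by
  refine ⟨QCOpen.isQuasicoherent_of_open_cover M (fun x => ?_),
    Groth.Agent.Lib.Helper13.PCohFT.isFiniteType_of_openImmersions M (fun x => ?_)⟩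
  · obtain ⟨V, hxV, hV⟩ := h x
    exact ⟨V, hxV, hV.1⟩
  · obtain ⟨V, hxV, hV⟩ := h x
    exact ⟨V, V.ι, inferInstance, ⟨x, hxV⟩, rfl, hV.2⟩

lemma isCoh_jst (V : Y.Opens) (M : Y.Modules) (hM : Coh.IsCoh M) : Coh.IsCoh ((jst V).obj M) :=
  Groth.Agent.Lib.Helper2.ExtCoh.isCoh_restrict V.ι M hM

theorem nonempty_iso_kernel_of_exact {A : Type*} [Category A] [Abelian A] {X₁ X₂ X₃ : A}
    (f : X₁ ⟶ X₂) (g : X₂ ⟶ X₃) (w : f ≫ g = 0) (hex : (ShortComplex.mk f g w).Exact)
    (hf : Mono f) : Nonempty (X₁ ≅ kernel g) := by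
  haveI : Mono (ShortComplex.mk f g w).f := hf
  have e := IsLimit.conePointUniqueUpToIso hex.fIsKernel (kernelIsKernel g)
  exact ⟨e⟩

/-- `ℋom(F, G)` is coherent when `F` has a finite presentation by finite free modules -/
theorem isCoh_sheafHom_of_presentation [IsLocallyNoetherian Y] (F G : Y.Modules)
    (hG : Coh.IsCoh G) {E₀ E₁ : Y.Modules} (h₀ : IsFinFree E₀) (h₁ : IsFinFree E₁)
    (q : E₁ ⟶ E₀) (p : E₀ ⟶ F) (hp : Epi p) (w : q ≫ p = 0)
    (hex : (ShortComplex.mk q p w).Exact) :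
    Coh.IsCoh ((ModSite.sheafHom (O := Y.sheaf) F).obj G) := by
  haveI hp' : @Epi (ModSite.Mod Y.sheaf) _ _ _ p := hp
  have h1 := exact_sheafHomMap (O := Y.sheaf) q p w hex G
  have h2 : Mono ((ExtSupp.sheafHomMap (O := Y.sheaf) p).app G) :=
    mono_sheafHomMap_app (O := Y.sheaf) p G
  obtain ⟨e⟩ := nonempty_iso_kernel_of_exact _ _ _ h1 h2
  refine isCoh_of_iso' e.symm ?_
  exact Groth.Agent.Lib.Helper1.FFCoh.isCoh_kernel _ (isCoh_sheafHom_free h₀ G hG)
    (isCoh_sheafHom_free h₁ G hG)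

/-- the kernel sequence restricted to an open, with the kernel replaced by generators -/
theorem exact_restrict_generators (U : Y.Opens) {E₀ F : Y.Modules} (p : E₀ ⟶ F)
    {E₁ : (U : Scheme.{u}).Modules} (π : E₁ ⟶ (jst U).obj (kernel p)) (hπ : Epi π) :
    ∃ w : (π ≫ (jst U).map (kernel.ι p)) ≫ (jst U).map p = 0,
      (ShortComplex.mk (π ≫ (jst U).map (kernel.ι p)) ((jst U).map p) w).Exact := by
  have w : (π ≫ (jst U).map (kernel.ι p)) ≫ (jst U).map p = 0 := by
    rw [Category.assoc, ← Functor.map_comp, kernel.condition, Functor.map_zero, comp_zero]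
  refine ⟨w, ?_⟩
  let S₀ : ShortComplex Y.Modules := ShortComplex.mk (kernel.ι p) p (kernel.condition p)
  have h₀ : S₀.Exact := ShortComplex.exact_of_f_is_kernel S₀ (kernelIsKernel _)
  have h₁ : (S₀.map (jst U)).Exact := h₀.map (jst U)
  let φ : ShortComplex.mk (π ≫ (jst U).map (kernel.ι p)) ((jst U).map p) w ⟶ S₀.map (jst U) :=
    { τ₁ := π
      τ₂ := 𝟙 _
      τ₃ := 𝟙 _
      comm₁₂ := by
        dsimp [S₀]
        erw [Category.comp_id]
        rfl
      comm₂₃ := by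
        dsimp [S₀]
        erw [Category.id_comp] }
  haveI : Epi φ.τ₁ := hπ
  haveI : IsIso φ.τ₂ := inferInstanceAs (IsIso (𝟙 _))
  haveI : Mono φ.τ₃ := inferInstanceAs (Mono (𝟙 _))
  exact (ShortComplex.exact_iff_of_epi_of_isIso_of_mono φ).2 h₁

/-- `ℋom(F, G)` is coherent when `F` is a quotient of a finite free module -/
theorem isCoh_sheafHom_of_generators [IsLocallyNoetherian Y] (F G : Y.Modules)
    (hF : Coh.IsCoh F) (hG : Coh.IsCoh G) {E₀ : Y.Modules} (h₀ : IsFinFree E₀)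
    (p : E₀ ⟶ F) (hp : Epi p) :
    Coh.IsCoh ((ModSite.sheafHom (O := Y.sheaf) F).obj G) := by
  apply isCoh_of_cover
  intro y
  have hK : Coh.IsCoh (kernel p) :=
    Groth.Agent.Lib.Helper1.FFCoh.isCoh_kernel p (isCoh_of_isFinFree h₀) hF
  obtain ⟨U, hU, hyU, σ, hσ⟩ := @QCLocal.exists_affine_generatingSections Y (kernel p) hK.2 y
  refine ⟨U, hyU, ?_⟩
  haveI : Finite σ.I := hσ.finite
  obtain ⟨w, hex⟩ := exact_restrict_generators U p
    (E₁ := (SheafOfModules.free (R := (U : Scheme.{u}).ringCatSheaf) σ.I : (U : Scheme.{u}).Modules))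
    σ.π σ.epi
  have hp' : Epi ((jst U).map p) := inferInstance
  have h := isCoh_sheafHom_of_presentation ((jst U).obj F) ((jst U).obj G) (isCoh_jst U G hG)
    (isFinFree_restrict U h₀) (isFinFree_free σ.I) _ _ hp' w hex
  exact isCoh_of_iso' ((restrSheafHomIso U F).app G).symm h

/-- `ℋom(F, G)` is coherent for coherent `F`, `G` on a locally Noetherian scheme -/
theorem isCoh_sheafHom [IsLocallyNoetherian Y] (F G : Y.Modules)
    (hF : Coh.IsCoh F) (hG : Coh.IsCoh G) :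
    Coh.IsCoh ((ModSite.sheafHom (O := Y.sheaf) F).obj G) := by
  apply isCoh_of_cover
  intro y
  haveI : SheafOfModules.IsFiniteType (R := Y.ringCatSheaf) F := hF.2
  obtain ⟨U, hU, hyU, σ, hσ⟩ := QCLocal.exists_affine_generatingSections F y
  refine ⟨U, hyU, ?_⟩
  haveI : Finite σ.I := hσ.finite
  have h := isCoh_sheafHom_of_generators ((jst U).obj F) ((jst U).obj G) (isCoh_jst U F hF)
    (isCoh_jst U G hG) (isFinFree_free σ.I) σ.π σ.epi
  exact isCoh_of_iso' ((restrSheafHomIso U F).app G).symm h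

theorem isCoh_extSh_zero [IsLocallyNoetherian Y] (F G : Y.Modules)
    (hF : Coh.IsCoh F) (hG : Coh.IsCoh G) :
    Coh.IsCoh ((ModSite.extSh (O := Y.sheaf) F 0).obj G) := by
  haveI := pfl_sheafHom (O := Y.sheaf) F
  exact isCoh_of_iso' ((ModSite.sheafHom (O := Y.sheaf) F).rightDerivedZeroIsoSelf.app G).symm
    (isCoh_sheafHom F G hF hG)

theorem shortExact_kernel {E₀ F : Y.Modules} (p : E₀ ⟶ F) (hp : Epi p) :
    (ShortComplex.mk (kernel.ι p) p (kernel.condition p)).ShortExact :=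
  { exact := ShortComplex.exact_of_f_is_kernel _ (kernelIsKernel _)
    mono_f := by dsimp; infer_instance
    epi_g := hp }

theorem isCoh_extSh_one_of_generators [IsLocallyNoetherian Y] (F G : Y.Modules)
    (hF : Coh.IsCoh F) (hG : Coh.IsCoh G) {E₀ : Y.Modules} (h₀ : IsFinFree E₀)
    (p : E₀ ⟶ F) (hp : Epi p) :
    Coh.IsCoh ((ModSite.extSh (O := Y.sheaf) F 1).obj G) := by
  have hK : Coh.IsCoh (kernel p) :=
    Groth.Agent.Lib.Helper1.FFCoh.isCoh_kernel p (isCoh_of_isFinFree h₀) hF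
  obtain ⟨e⟩ := nonempty_cokernel_iso (O := Y.sheaf) (kernel.ι p) p (kernel.condition p)
    (shortExact_kernel p hp) (pfc_of_isFinFree h₀) G
  refine isCoh_of_iso' e ?_
  exact DevBasic.isCoh_cokernel _ (isCoh_sheafHom_free h₀ G hG).1
    (isCoh_sheafHom (kernel p) G hK hG)

theorem isCoh_extSh_add_two_of_generators [IsLocallyNoetherian Y] (F G : Y.Modules)
    {E₀ : Y.Modules} (h₀ : IsFinFree E₀) (p : E₀ ⟶ F) (hp : Epi p) (q : ℕ)
    (h : Coh.IsCoh ((ModSite.extSh (O := Y.sheaf) (kernel p) (q + 1)).obj G)) :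
    Coh.IsCoh ((ModSite.extSh (O := Y.sheaf) F (q + 2)).obj G) := by
  obtain ⟨e⟩ := nonempty_extSh_iso (O := Y.sheaf) (kernel.ι p) p (kernel.condition p)
    (shortExact_kernel p hp) (pfc_of_isFinFree h₀) q G
  exact isCoh_of_iso' e h

/-- the local Ext sheaves of coherent modules on a locally Noetherian scheme are coherent -/
theorem isCoh_extSh_succ : ∀ (q : ℕ) (Y : Scheme.{u}) [IsLocallyNoetherian Y] (F G : Y.Modules),
    Coh.IsCoh F → Coh.IsCoh G → Coh.IsCoh ((ModSite.extSh (O := Y.sheaf) F (q + 1)).obj G) := by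
  intro q
  induction q with
  | zero =>
    intro Y _ F G hF hG
    apply isCoh_of_cover
    intro y
    haveI : SheafOfModules.IsFiniteType (R := Y.ringCatSheaf) F := hF.2
    obtain ⟨U, hU, hyU, σ, hσ⟩ := QCLocal.exists_affine_generatingSections F y
    refine ⟨U, hyU, ?_⟩
    haveI : Finite σ.I := hσ.finite
    have h := isCoh_extSh_one_of_generators ((jst U).obj F) ((jst U).obj G) (isCoh_jst U F hF)
      (isCoh_jst U G hG) (isFinFree_free σ.I) σ.π σ.epi
    exact isCoh_of_iso' ((restrExtShIso U F 1).app G).symm h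
  | succ q ih =>
    intro Y _ F G hF hG
    apply isCoh_of_cover
    intro y
    haveI : SheafOfModules.IsFiniteType (R := Y.ringCatSheaf) F := hF.2
    obtain ⟨U, hU, hyU, σ, hσ⟩ := QCLocal.exists_affine_generatingSections F y
    refine ⟨U, hyU, ?_⟩
    haveI : Finite σ.I := hσ.finite
    have hK : Coh.IsCoh (kernel σ.π) :=
      Groth.Agent.Lib.Helper1.FFCoh.isCoh_kernel σ.π (isCoh_of_isFinFree (isFinFree_free σ.I))
        (isCoh_jst U F hF)
    have h1 := ih (U : Scheme.{u}) (kernel σ.π) ((jst U).obj G) hK (isCoh_jst U G hG)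
    have h := isCoh_extSh_add_two_of_generators ((jst U).obj F) ((jst U).obj G)
      (isFinFree_free σ.I) σ.π σ.epi q h1
    exact isCoh_of_iso' ((restrExtShIso U F (q + 1 + 1)).app G).symm h

theorem isCoh_extSh (i : ℕ) (Y : Scheme.{u}) [IsLocallyNoetherian Y] (F G : Y.Modules)
    (hF : Coh.IsCoh F) (hG : Coh.IsCoh G) :
    Coh.IsCoh ((ModSite.extSh (O := Y.sheaf) F i).obj G) := by
  cases i with
  | zero => exact isCoh_extSh_zero F G hF hG
  | succ q => exact isCoh_extSh_succ q Y F G hF hG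

end Groth.Agent.Lib.Helper2.ExtShCoh
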