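import Groth.Agent.Lib.Helper2.ExtShCoh.Restr
import Groth.Agent.Lib.Helper13.AffineVanish

/-!
# Transport of the internal hom and of the local Ext sheaves along an isomorphism of schemes (helper2)

The same statements as in `Restr.lean`, for an isomorphism `j : Y ⟶ X` of schemes in place of the
inclusion of an open subscheme.
-/

set_option autoImplicit false
set_option linter.style.haveILetI false
universe u
open CategoryTheory CategoryTheory.Limits AlgebraicGeometry TopologicalSpace Opposite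

namespace Groth.Agent.Lib.Helper2.ExtShCoh.RestrIso

open Groth.Agent.Lib.Helper2.RHom Groth.Agent.Lib.Helper13 Groth.Agent.Lib.Helper2.Mon

variable {X Y : Scheme.{u}} (j : Y ⟶ X) [IsIso j]

/-- extension by zero -/
noncomputable abbrev Lj : Y.Modules ⥤ X.Modules := CxOX.extZero j
/-- restriction -/
noncomputable abbrev Rj : X.Modules ⥤ Y.Modules := Scheme.Modules.restrictFunctor j
/-- the adjunction -/
noncomputable abbrev adjJ : Lj j ⊣ Rj j := CxOX.extZeroAdj j

instance isEquivalence_Rj : (Rj j).IsEquivalence := by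
  let φ : X ≅ Y := (asIso j).symm
  haveI : (Scheme.Modules.pushforward φ.hom).IsEquivalence :=
    (AffineVanish.pushEquivalence φ).isEquivalence_functor
  exact Functor.isEquivalence_of_iso (AffineVanish.restrictIsoPush φ).symm

instance isEquivalence_Lj : (Lj j).IsEquivalence :=
  (adjJ j).isEquivalence_left_of_isEquivalence_right

/-- `A ⊗ B|_Y ≅ (j_!A ⊗ B)|_Y` -/
noncomputable def thetaIso (A : Y.Modules) (B : X.Modules) :
    ((DCoh.tensorBi (X := Y)).obj A).obj ((Rj j).obj B) ≅
      (Rj j).obj (((DCoh.tensorBi (X := X)).obj ((Lj j).obj A)).obj B) :=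
  ((DCoh.tensorBi (X := Y)).mapIso (asIso ((adjJ j).unit.app A))).app ((Rj j).obj B) ≪≫
    resTensorIso' j ((Lj j).obj A) B

lemma thetaIso_hom (A : Y.Modules) (B : X.Modules) :
    (thetaIso j A B).hom =
      ((DCoh.tensorBi (X := Y)).map ((adjJ j).unit.app A)).app ((Rj j).obj B) ≫
        (resTensorIso' j ((Lj j).obj A) B).hom := rfl

lemma thetaIso_nat₁ {A A' : Y.Modules} (a : A ⟶ A') (B : X.Modules) :
    ((DCoh.tensorBi (X := Y)).map a).app ((Rj j).obj B) ≫ (thetaIso j A' B).hom =
      (thetaIso j A B).hom ≫ (Rj j).map (((DCoh.tensorBi (X := X)).map ((Lj j).map a)).app B) := by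
  rw [thetaIso_hom, thetaIso_hom, Category.assoc, ← resTensorIso'_nat₁ j ((Lj j).map a) B]
  have h := (adjJ j).unit.naturality a
  simp only [Functor.id_map, Functor.comp_map] at h
  rw [← Category.assoc, ← Category.assoc, ← NatTrans.comp_app, ← NatTrans.comp_app,
    ← Functor.map_comp, ← Functor.map_comp, h]

/-- the projection morphism `j_!(A ⊗ B|_Y) ⟶ j_!A ⊗ B` -/
noncomputable def projHom (A : Y.Modules) (B : X.Modules) :
    (Lj j).obj (((DCoh.tensorBi (X := Y)).obj A).obj ((Rj j).obj B)) ⟶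
      ((DCoh.tensorBi (X := X)).obj ((Lj j).obj A)).obj B :=
  ((adjJ j).homEquiv _ _).symm (thetaIso j A B).hom

lemma projHom_nat₁ {A A' : Y.Modules} (a : A ⟶ A') (B : X.Modules) :
    (Lj j).map (((DCoh.tensorBi (X := Y)).map a).app ((Rj j).obj B)) ≫ projHom j A' B =
      projHom j A B ≫ ((DCoh.tensorBi (X := X)).map ((Lj j).map a)).app B := by
  unfold projHom
  rw [← Adjunction.homEquiv_naturality_left_symm, ← Adjunction.homEquiv_naturality_right_symm,
    thetaIso_nat₁]

instance isIso_projHom (A : Y.Modules) (B : X.Modules) : IsIso (projHom j A B) := by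
  have h : projHom j A B = (Lj j).map (thetaIso j A B).hom ≫ (adjJ j).counit.app _ :=
    (adjJ j).homEquiv_counit _ _ _
  rw [h]
  infer_instance

/-- the projection formula `j_!A ⊗ B ≅ j_!(A ⊗ B|_Y)` -/
noncomputable def projIso (A : Y.Modules) (B : X.Modules) :
    ((DCoh.tensorBi (X := X)).obj ((Lj j).obj A)).obj B ≅
      (Lj j).obj (((DCoh.tensorBi (X := Y)).obj A).obj ((Rj j).obj B)) :=
  (asIso (projHom j A B)).symm

lemma projIso_nat₁ {A A' : Y.Modules} (a : A ⟶ A') (B : X.Modules) :
    ((DCoh.tensorBi (X := X)).map ((Lj j).map a)).app B ≫ (projIso j A' B).hom =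
      (projIso j A B).hom ≫ (Lj j).map (((DCoh.tensorBi (X := Y)).map a).app ((Rj j).obj B)) := by
  show _ ≫ inv (projHom j A' B) = inv (projHom j A B) ≫ _
  rw [IsIso.comp_inv_eq, Category.assoc, IsIso.eq_inv_comp]
  exact (projHom_nat₁ j a B).symm

/-- `j_!(-) ⊗ F` -/
noncomputable abbrev L₁ (F : X.Modules) : Y.Modules ⥤ X.Modules :=
  Lj j ⋙ (ModSite.tensorBi X.sheaf).flip.obj F

/-- `j_!(- ⊗ F|_Y)` -/
noncomputable abbrev L₂ (F : X.Modules) : Y.Modules ⥤ X.Modules :=
  (ModSite.tensorBi Y.sheaf).flip.obj ((Rj j).obj F) ⋙ Lj j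

/-- the projection formula as a natural isomorphism in the first variable -/
noncomputable def projNat (F : X.Modules) : L₁ j F ≅ L₂ j F :=
  NatIso.ofComponents (fun A => projIso j A F) (by
    intro A A' a
    exact projIso_nat₁ j a F)

/-- transport of the internal hom along an isomorphism of schemes -/
noncomputable def restrSheafHomIso (F : X.Modules) [ModSite.HasSheafHom (O := X.sheaf) F]
    [ModSite.HasSheafHom (O := Y.sheaf) ((Rj j).obj F)] :
    ModSite.sheafHom (O := X.sheaf) F ⋙ Rj j ≅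
      Rj j ⋙ ModSite.sheafHom (O := Y.sheaf) ((Rj j).obj F) :=
  let adj₁ : L₁ j F ⊣ ModSite.sheafHom (O := X.sheaf) F ⋙ Rj j :=
    (adjJ j).comp (ModSite.sheafHomAdj (O := X.sheaf) F)
  let adj₂ : L₂ j F ⊣ Rj j ⋙ ModSite.sheafHom (O := Y.sheaf) ((Rj j).obj F) :=
    (ModSite.sheafHomAdj (O := Y.sheaf) ((Rj j).obj F)).comp (adjJ j)
  (adj₁.ofNatIsoLeft (projNat j F)).rightAdjointUniq adj₂

instance additive_Rj : (Rj j).Additive := (adjJ j).right_adjoint_additive

theorem injective_Rj (I : X.Modules) (hI : Injective I) : Injective ((Rj j).obj I) := by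
  haveI : (Lj j).PreservesMonomorphisms := inferInstance
  exact Injective.injective_of_adjoint (adjJ j) I

/-- transport of the local Ext sheaves along an isomorphism of schemes -/
noncomputable def restrExtShIso (F : X.Modules) [ModSite.HasSheafHom (O := X.sheaf) F]
    [ModSite.HasSheafHom (O := Y.sheaf) ((Rj j).obj F)]
    [HasInjectiveResolutions (ModSite.Mod X.sheaf)]
    [HasInjectiveResolutions (ModSite.Mod Y.sheaf)] (q : ℕ) :
    ModSite.extSh (O := X.sheaf) F q ⋙ Rj j ≅
      Rj j ⋙ ModSite.extSh (O := Y.sheaf) ((Rj j).obj F) q :=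
  haveI h1 : HasInjectiveResolutions X.Modules := ‹HasInjectiveResolutions (ModSite.Mod X.sheaf)›
  haveI h2 : HasInjectiveResolutions Y.Modules := ‹HasInjectiveResolutions (ModSite.Mod Y.sheaf)›
  haveI h3 : (Rj j).Additive := additive_Rj j
  let SX : X.Modules ⥤ X.Modules := ModSite.sheafHom (O := X.sheaf) F
  let SV : Y.Modules ⥤ Y.Modules := ModSite.sheafHom (O := Y.sheaf) ((Rj j).obj F)
  haveI h4 : SX.Additive := ModSite.sheafHom_additive X.sheaf F
  haveI h5 : SV.Additive := ModSite.sheafHom_additive Y.sheaf ((Rj j).obj F)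
  let e : SX ⋙ Rj j ≅ Rj j ⋙ SV := restrSheafHomIso j F
  DerivedCommute.rightDerivedBaseChangeIso SX (Rj j) (Rj j) (injective_Rj j) SV e q

end Groth.Agent.Lib.Helper2.ExtShCoh.RestrIso
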