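import Groth.Agent.Lib.Helper2.ExtShCoh.Coh
import Groth.Agent.Lib.Helper2.SuppTensor
import Groth.Agent.Lib.Helper2.GSS.NatDerived

/-!
# Local Ext sheaves with supports `ℰxt^i_Z(F, -)` when `F` is supported in `Z` (helper2)
-/

set_option autoImplicit false
universe u
open CategoryTheory CategoryTheory.Limits AlgebraicGeometry TopologicalSpace Opposite

namespace Groth.Agent.Lib.Helper2.ExtShCoh

open Groth.Agent.Lib.Helper13 Groth.Agent.Lib.Helper13.ModSiteUnitor Groth.Agent.Lib.Helper2.SuppAdj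

section Site

variable {C : Type u} [SmallCategory C] {J : GrothendieckTopology C} (O : Sheaf J CommRingCat.{u})
  (U : C) (M : ModSite.Mod O)

/-- `ℋom(M, B)` is null on `U` if `M` is. -/
lemma isNullOn_sheafHom_left [ModSite.HasSheafHom M] (hM : ModSite.IsNullOn O U M)
    (B : ModSite.Mod O) : ModSite.IsNullOn O U ((ModSite.sheafHom M).obj B) := by
  rw [ExtSupp.isNullOn_iff]
  intro V g x
  apply (sheafHomSectEquiv O M B V).injective
  have hz : IsZero ((ModSite.restr O V).obj M) := ExtSupp.isNullOn_of_hom O g hM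
  exact hz.eq_of_src _ _

/-- `Γ_Z H ⟶ H` is an isomorphism if `H` is null on `U`. -/
lemma isIso_sectOnι_of_isNullOn [ModSite.HasPushOver O U] (H : ModSite.Mod O)
    (hH : ModSite.IsNullOn O U H) : IsIso ((ModSite.sectOnι O U).app H) := by
  have h0 : (ModSite.restrPushOverAdj O U).unit.app H = 0 := by
    have h1 := (comp_unit_eq_zero_iff (ModSite.restrPushOverAdj O U) (𝟙 H)).2 (hH.eq_of_src _ _)
    rwa [Category.id_comp] at h1
  exact KernelFork.IsLimit.isIso_ι _ (limit.isLimit _) h0

/-- If `M` is null on `U` then `Γ_Z ∘ ℋom(M, -) ≅ ℋom(M, -)`. -/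
noncomputable def sheafHomSectOnIsoSelf [ModSite.HasPushOver O U] [ModSite.HasSheafHom M]
    (hM : ModSite.IsNullOn O U M) :
    ModSite.sheafHom M ⋙ ModSite.sectOn O U ≅ ModSite.sheafHom M :=
  haveI : ∀ B : ModSite.Mod O, IsIso ((Functor.whiskerLeft (ModSite.sheafHom M)
      (ModSite.sectOnι O U)).app B) := fun B =>
    isIso_sectOnι_of_isNullOn O U _ (isNullOn_sheafHom_left O U M hM B)
  haveI : IsIso (Functor.whiskerLeft (ModSite.sheafHom M) (ModSite.sectOnι O U)) :=
    NatIso.isIso_of_isIso_app _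
  asIso (Functor.whiskerLeft (ModSite.sheafHom M) (ModSite.sectOnι O U)) ≪≫
    Functor.rightUnitor _

/-- If `M` is null on `U` then `ℰxt^q_Z(M, -) ≅ ℰxt^q(M, -)`. -/
noncomputable def extZShIsoExtSh [ModSite.HasPushOver O U] [ModSite.HasSheafHom M]
    [HasInjectiveResolutions (ModSite.Mod O)] (hM : ModSite.IsNullOn O U M) (q : ℕ) :
    ModSite.extZSh U M q ≅ ModSite.extSh M q :=
  NatDerived.rightDerivedNatIso (sheafHomSectOnIsoSelf O U M hM) q

end Site

section Scheme

variable {X : Scheme.{u}}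

/-- A module whose support misses `U` is null on `U`. -/
theorem isNullOn_of_support (U : X.Opens) (F : X.Modules)
    (h : ∀ x ∈ CohB1.support F, x ∉ (U : Set X)) : ModSite.IsNullOn X.sheaf U F := by
  rw [ExtSupp.isNullOn_iff]
  intro V g s
  apply TopCat.Presheaf.section_ext (⟨F.presheaf, F.isSheaf⟩ : TopCat.Sheaf Ab X.toTopCat) V
  intro x hx
  have hxU : x ∈ U := g.le hx
  haveI : Subsingleton (F.presheaf.stalk x) := by
    by_contra hns
    exact h x hns hxU
  exact Subsingleton.elim _ _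

end Scheme

end Groth.Agent.Lib.Helper2.ExtShCoh
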